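import Cfsg.Agent.Lib.Th.TopP0
import Cfsg.Agent.Lib.Th.TopP1
import Cfsg.Agent.Lib.Th.TopP2
import Cfsg.Agent.Lib.Th.TopP3

/-!
The checks, collected.
-/

set_option autoImplicit false
set_option maxRecDepth 100000
set_option Elab.async false

namespace Cfsg.Agent.TE.Top

theorem ka : ktA F 7484 28672 14680065 192 0x8600bd007c0096006e002d00be00bc00b0006c003f003800aa00d0004f005b00c900950063005a00510040008a005d002a0039005f0049006b0093002000d3007900c1004b006400c800ac00ba00a9002c0071008000cc006a009e003b00b30019008c009800c40091009d002f00d60021004e00c000d2009b0052002b00b800a00073007400a8004500a30023006f006500c5008e0059004100a60044005c008100c6002600cb00600066007a009f007d002e005700c200330053007f00b400cd009c007200680075005500bf0090002500d5005000bb008900ca003d0099003700c7001d00b2004d00d1008f0029003400cf0092005e001f00b9004c0082006d00b7006200ab00850035009400ae0048004200780083004a00d40097006700430054004700b5007b00360056003c002800ce00300077003e00a50069003a0058008b0076003100840024006100b60032000d00a2001c007e0087001e004600af00a40027002200a100a70088008d00c3007000b100ad009a000b001b001a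 0 = true := by decide +kernel

theorem kb : ktB F 7484 28672 14680065 192 0x15901530183017e014f0155017f018200fe01080168016601040102016a016000ed00ef0139013500f000f2012f01330174016c018c0191016e0172018d019001750171018f0192016f0177018e01930152015401560150014e0158015a014c014d01570180017d015b0151017c0181010a00fc0163016901000106015d016b00f300f1012d013100ee00ec013b01370162015e01950198015c0164019401990167015f0196019b016101650197019a01440142014001460148013e013c014a0127012b00f600f40121011d00fb00f9017b016d0110011601790173011a010c018501880147013d018901840141014b0105010900e300e100ff010300e400e6010100fd00e500e7010b010700e200e00120012601240122012a011c011e01280123011f00f800fa0125012900f500f70170017a0114011201760178010e01180186018b01430149018a01870145013f0115011900d8000c010f011300d900db0111010d00da00dc011b011700d7001a0130013601340132013a012c012e0138 0 = true := by decide +kernel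

theorem ps0 : Pass A F 0 := Pass.zero
theorem ps1 : Pass A F 256 := ps0.add' t0 (by decide +kernel)
theorem ps2 : Pass A F 512 := ps1.add' t1 (by decide +kernel)
theorem ps3 : Pass A F 768 := ps2.add' t2 (by decide +kernel)
theorem ps4 : Pass A F 1024 := ps3.add' t3 (by decide +kernel)
theorem ps5 : Pass A F 1280 := ps4.add' t4 (by decide +kernel)
theorem ps6 : Pass A F 1536 := ps5.add' t5 (by decide +kernel)
theorem ps7 : Pass A F 1792 := ps6.add' t6 (by decide +kernel)
theorem ps8 : Pass A F 2048 := ps7.add' t7 (by decide +kernel)
theorem ps9 : Pass A F 2304 := ps8.add' t8 (by decide +kernel)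
theorem ps10 : Pass A F 2560 := ps9.add' t9 (by decide +kernel)
theorem ps11 : Pass A F 2816 := ps10.add' t10 (by decide +kernel)
theorem ps12 : Pass A F 3072 := ps11.add' t11 (by decide +kernel)
theorem ps13 : Pass A F 3328 := ps12.add' t12 (by decide +kernel)
theorem ps14 : Pass A F 3584 := ps13.add' t13 (by decide +kernel)
theorem ps15 : Pass A F 3840 := ps14.add' t14 (by decide +kernel)
theorem ps16 : Pass A F 4096 := ps15.add' t15 (by decide +kernel)
theorem ps17 : Pass A F 4352 := ps16.add' t16 (by decide +kernel)
theorem ps18 : Pass A F 4608 := ps17.add' t17 (by decide +kernel)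
theorem ps19 : Pass A F 4864 := ps18.add' t18 (by decide +kernel)
theorem ps20 : Pass A F 5120 := ps19.add' t19 (by decide +kernel)
theorem ps21 : Pass A F 5376 := ps20.add' t20 (by decide +kernel)
theorem ps22 : Pass A F 5632 := ps21.add' t21 (by decide +kernel)
theorem ps23 : Pass A F 5888 := ps22.add' t22 (by decide +kernel)
theorem ps24 : Pass A F 6144 := ps23.add' t23 (by decide +kernel)
theorem ps25 : Pass A F 6400 := ps24.add' t24 (by decide +kernel)
theorem ps26 : Pass A F 6656 := ps25.add' t25 (by decide +kernel)
theorem ps27 : Pass A F 6912 := ps26.add' t26 (by decide +kernel)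
theorem ps28 : Pass A F 7168 := ps27.add' t27 (by decide +kernel)
theorem ps29 : Pass A F 7424 := ps28.add' t28 (by decide +kernel)
theorem ps30 : Pass A F 7484 := ps29.add' t29 (by decide +kernel)

theorem fin : Fin' A F 7484 28672 17199 36864 l where
  pass := ps30
  one := by decide +kernel
  mem := ⟨_, List.mem_cons_self⟩
  pos := by decide
  kt := ⟨_, _, _, _, _, rfl, ka, kb⟩
  cov := by
    simp only [l, List.forall_mem_cons]
    exact ⟨⟨_, _, _, _, cv0⟩, ⟨_, _, _, _, cv1⟩, ⟨_, _, _, _, cv2⟩, ⟨_, _, _, _, cv3⟩, ⟨_, _, _, _, cv4⟩, ⟨_, _, _, _, cv5⟩, ⟨_, _, _, _, cv6⟩, ⟨_, _, _, _, cv7⟩, ⟨_, _, _, _, cv8⟩, ⟨_, _, _, _, cv9⟩, fun _ h => by cases h⟩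

end Cfsg.Agent.TE.Top
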